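import Groth.Agent.Lib.FlatStage.Chase
import Groth.Agent.Lib.Flatness.Fibre
import Mathlib.RingTheory.Adjoin.FG
import Mathlib.RingTheory.Localization.AtPrime.Basic
import Mathlib.RingTheory.Localization.Submodule
import Mathlib.RingTheory.Flat.EquationalCriterion
import Mathlib.RingTheory.Polynomial.Basic
import Mathlib.Algebra.MvPolynomial.Eval

/-!
# Noetherian stages under a local ring

* `exists_stage`: a finite subset of a local ring lies in a noetherian local subring.
* `exists_gr_stage`: if `R[z]/(g)` is `R`-flat, then over some such stage `S` the module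
  `S[z]/(g)` has the graded property of flat modules for all powers of the maximal ideal.
-/

universe u

namespace GrothLib.FlatStage

open TensorProduct Function IsLocalRing MvPolynomial GrothLib.Flatness

theorem exists_stage_of_injective {R : Type u} [CommRing R] [IsLocalRing R] {B : Type u}
    [CommRing B] [IsNoetherianRing B] (ι : B →+* R) (hι : Injective ι) :
    ∃ (S : Type u) (_ : CommRing S) (_ : IsLocalRing S) (_ : IsNoetherianRing S) (g : B →+* S)
      (h : S →+* R), h.comp g = ι ∧ Injective h ∧ IsLocalHom h := by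
  let p : Ideal B := (maximalIdeal R).comap ι
  haveI : p.IsPrime := Ideal.IsPrime.comap _
  haveI : IsNoetherianRing (Localization.AtPrime p) :=
    IsLocalization.isNoetherianRing p.primeCompl _ inferInstance
  have hu : ∀ y : p.primeCompl, IsUnit (ι y) := fun y => by
    by_contra h'
    exact y.2 ((mem_maximalIdeal _).mpr h')
  let h : Localization.AtPrime p →+* R := IsLocalization.lift hu
  have hh : ∀ b : B, h (algebraMap B _ b) = ι b := fun b => IsLocalization.lift_eq hu b
  have hval : ∀ (b : B) (s : p.primeCompl),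
      h (IsLocalization.mk' _ b s) * ι s = ι b := fun b s => by
    rw [← hh (s : B), ← map_mul, IsLocalization.mk'_spec, hh]
  refine ⟨Localization.AtPrime p, inferInstance, inferInstance, inferInstance,
    algebraMap B _, h, RingHom.ext hh, ?_, ?_⟩
  · rw [injective_iff_map_eq_zero]
    intro x hx
    obtain ⟨b, s, rfl⟩ := IsLocalization.exists_mk'_eq p.primeCompl x
    have hb : b = 0 := hι (by rw [map_zero, ← hval b s, hx, zero_mul])
    rw [hb, IsLocalization.mk'_zero]
  · refine ⟨fun x hx => ?_⟩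
    obtain ⟨b, s, rfl⟩ := IsLocalization.exists_mk'_eq p.primeCompl x
    have hb : b ∈ p.primeCompl := fun hbp =>
      (mem_maximalIdeal _).mp (show ι b ∈ maximalIdeal R from hbp)
        (by rw [← hval b s]; exact hx.mul (hu s))
    exact IsUnit.of_mul_eq_one (IsLocalization.mk' _ (s : B) ⟨b, hb⟩)
      (IsLocalization.mk'_mul_mk'_eq_one' b s hb)

/-- A finite subset of a local ring lies in a noetherian local subring over a given noetherian
ring. -/
theorem exists_stage {R : Type u} [CommRing R] [IsLocalRing R] {R₀ : Type u} [CommRing R₀]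
    [IsNoetherianRing R₀] (f : R₀ →+* R) {T : Set R} (hT : T.Finite) :
    ∃ (S : Type u) (_ : CommRing S) (_ : IsLocalRing S) (_ : IsNoetherianRing S) (g : R₀ →+* S)
      (h : S →+* R), h.comp g = f ∧ Injective h ∧ IsLocalHom h ∧ T ⊆ Set.range h := by
  letI := f.toAlgebra
  haveI : IsNoetherianRing (Algebra.adjoin R₀ T) :=
    isNoetherianRing_of_fg (Subalgebra.fg_def.mpr ⟨T, hT, rfl⟩)
  obtain ⟨S, i₁, i₂, i₃, g, h, hg, hinj, hloc⟩ :=
    exists_stage_of_injective (Algebra.adjoin R₀ T).val.toRingHom Subtype.val_injective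
  refine ⟨S, i₁, i₂, i₃, g.comp (algebraMap R₀ _), h, ?_, hinj, hloc, fun t ht => ?_⟩
  · rw [← RingHom.comp_assoc, hg]
    exact RingHom.ext fun a => rfl
  · exact ⟨g ⟨t, Algebra.subset_adjoin ht⟩, RingHom.congr_fun hg _⟩

/-- A polynomial with coefficients in the image of `h` comes from `S`. -/
theorem exists_map_eq {σ : Type*} {S R : Type u} [CommRing S] [CommRing R] (h : S →+* R)
    {p : MvPolynomial σ R} (hp : (p.coeffs : Set R) ⊆ Set.range h) :
    ∃ q, MvPolynomial.map h q = p :=
  mem_range_map_iff_coeffs_subset.mpr hp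

theorem map_mem_trivRel {S M M' : Type u} [CommRing S] [AddCommGroup M] [Module S M]
    [AddCommGroup M'] [Module S M'] {r : ℕ} {c : Fin r → S} (f : M →ₗ[S] M') {b : Fin r → M}
    (hb : b ∈ trivRel M c) : (fun i => f (b i)) ∈ trivRel M' c := by
  induction hb using Submodule.span_induction with
  | mem b hb =>
    obtain ⟨s, y, h, hb⟩ := hb
    exact mem_trivRel_of _ _ h (y := f y) fun i => by simp only [hb, map_smul]
  | zero =>
    convert zero_mem (trivRel M' c) using 1
    ext i
    simp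
  | add a b _ _ ha hb =>
    convert add_mem ha hb using 1
    ext i
    simp
  | smul s b _ hb =>
    convert Submodule.smul_mem _ s hb using 1
    ext i
    simp

theorem mk_C_mul {σ : Type*} {R : Type u} [CommRing R] (J : Ideal (MvPolynomial σ R)) (a : R)
    (z : MvPolynomial σ R ⧸ J) : Ideal.Quotient.mk J (C a) * z = a • z :=
  (Algebra.smul_def a z).symm

/-- Over a suitable noetherian stage, `S[z]/(g)` behaves like a flat module with respect to the
filtration by powers of the maximal ideal. -/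
theorem exists_gr_stage {R : Type u} [CommRing R] [IsLocalRing R] {R₀ : Type u} [CommRing R₀]
    [IsLocalRing R₀] [IsNoetherianRing R₀] (h₀ : R₀ →+* R) [IsLocalHom h₀] {m q : ℕ}
    (g₀ : Fin q → MvPolynomial (Fin m) R₀)
    (hflat : Module.Flat R
      (MvPolynomial (Fin m) R ⧸ Ideal.span (Set.range fun j => MvPolynomial.map h₀ (g₀ j)))) :
    ∃ (S : Type u) (_ : CommRing S) (_ : IsLocalRing S) (_ : IsNoetherianRing S) (φ : R₀ →+* S)
      (h : S →+* R), h.comp φ = h₀ ∧ Injective h ∧ IsLocalHom h ∧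
      ∀ (n l : ℕ) (d : Fin l → ↥(maximalIdeal S ^ n))
        (χ : Fin l → ↥(maximalIdeal S ^ n) →ₗ[S] S ⧸ maximalIdeal S)
        (_ : ∀ i j, χ i (d j) = if i = j then 1 else 0) (x : Fin l → MvPolynomial (Fin m) S),
        ∑ j, C (d j : S) * x j ∈ Ideal.span (Set.range fun j => MvPolynomial.map φ (g₀ j)) ⊔
            (maximalIdeal S ^ (n + 1)).map C →
          ∀ j, x j ∈ Ideal.span (Set.range fun j => MvPolynomial.map φ (g₀ j)) ⊔
            (maximalIdeal S).map C := by
  classical
  set J₀ := Ideal.span (Set.range g₀)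
  set J := Ideal.span (Set.range fun j => MvPolynomial.map h₀ (g₀ j)) with hJ
  obtain ⟨r, c, hc⟩ := Submodule.fg_iff_exists_fin_generating_family.mp
    (IsNoetherian.noetherian (maximalIdeal R₀))
  have hc' : Ideal.span (Set.range c) = maximalIdeal R₀ := hc
  obtain ⟨A₀, _, _, π, hπ, hπg, hπlift⟩ : ∃ (A₀ : Type u) (_ : CommRing A₀) (_ : Algebra R₀ A₀)
      (π : MvPolynomial (Fin m) R₀ →ₐ[R₀] A₀), Surjective π ∧ (∀ p, π p = 0 ↔ p ∈ J₀) ∧
      ∀ (B : Type u) [CommRing B] [Algebra R₀ B] (F : MvPolynomial (Fin m) R₀ →ₐ[R₀] B),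
        (∀ p ∈ J₀, F p = 0) → ∃ F' : A₀ →ₐ[R₀] B, ∀ p, F' (π p) = F p :=
    ⟨_, inferInstance, inferInstance, Ideal.Quotient.mkₐ R₀ J₀, Ideal.Quotient.mk_surjective,
      fun p => Ideal.Quotient.eq_zero_iff_mem,
      fun B _ _ F hF => ⟨Ideal.Quotient.liftₐ J₀ F hF, fun p => rfl⟩⟩
  haveI : IsNoetherianRing A₀ := isNoetherianRing_of_surjective _ _ π.toRingHom hπ
  let Rel : (Fin r → A₀) →ₗ[A₀] A₀ := ∑ i, algebraMap R₀ A₀ (c i) • LinearMap.proj i
  obtain ⟨G, hG⟩ := IsNoetherian.noetherian (LinearMap.ker Rel)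
  have hrel : ∀ b : ↥G, ∑ i, c i • b.1 i = 0 := fun b => by
    have hb : b.1 ∈ LinearMap.ker Rel := hG ▸ Submodule.subset_span b.2
    simpa [Rel, Algebra.smul_def] using LinearMap.mem_ker.mp hb
  choose β hβ using fun (b : ↥G) i => hπ (b.1 i)
  -- the relations are trivial over `R`
  have htriv : ∀ b : ↥G, ∃ (k : ℕ) (s : Fin r → Fin k → R) (y : Fin k → MvPolynomial (Fin m) R)
      (cof : Fin r → Fin q → MvPolynomial (Fin m) R),
      (∀ j, ∑ i, h₀ (c i) * s i j = 0) ∧ ∀ i, MvPolynomial.map h₀ (β b i) - ∑ j, C (s i j) * y j =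
        ∑ j, cof i j * MvPolynomial.map h₀ (g₀ j) := by
    intro b
    have hmem : ∑ i, C (c i) * β b i ∈ J₀ := by
      rw [← hπg, map_sum]
      refine Eq.trans ?_ (hrel b)
      refine Finset.sum_congr rfl fun i _ => ?_
      rw [map_mul, hβ, Algebra.smul_def, ← MvPolynomial.algebraMap_eq, AlgHom.commutes]
    have hmem' : ∑ i, C (h₀ (c i)) * MvPolynomial.map h₀ (β b i) ∈ J := by
      have := Ideal.mem_map_of_mem (MvPolynomial.map h₀) hmem
      rw [Ideal.map_span, ← Set.range_comp] at this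
      simpa [map_sum] using! this
    have h0 : ∑ i, h₀ (c i) • Ideal.Quotient.mk J (MvPolynomial.map h₀ (β b i)) = 0 := by
      rw [← Ideal.Quotient.eq_zero_iff_mem.mpr hmem', map_sum]
      refine Finset.sum_congr rfl fun i _ => ?_
      rw [map_mul]
      exact (mk_C_mul J _ _).symm
    obtain ⟨k, s, y, hy, hs⟩ := Module.Flat.isTrivialRelation_of_sum_smul_eq_zero h0
    choose y' hy' using fun j => Ideal.Quotient.mk_surjective (y j)
    have hd : ∀ i, MvPolynomial.map h₀ (β b i) - ∑ j, C (s i j) * y' j ∈ J := fun i => by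
      rw [← Ideal.Quotient.eq]
      refine (hy i).trans ?_
      rw [map_sum]
      refine Finset.sum_congr rfl fun j _ => ?_
      rw [map_mul, hy']
      exact (mk_C_mul J _ _).symm
    choose cof hcof using fun i => Ideal.mem_span_range_iff_exists_fun.mp (hd i)
    exact ⟨k, s, y', cof, hs, fun i => (hcof i).symm⟩
  choose k s y cof hs hcof using htriv
  let T : Set R := (⋃ (b : ↥G) (i : Fin r) (j : Fin (k b)), ({s b i j} : Set R)) ∪
    ((⋃ (b : ↥G) (j : Fin (k b)), ↑(y b j).coeffs) ∪
      ⋃ (b : ↥G) (i : Fin r) (j : Fin q), ↑(cof b i j).coeffs)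
  have hTfin : T.Finite :=
    .union (Set.finite_iUnion fun b => Set.finite_iUnion fun i => Set.finite_iUnion fun j =>
      Set.finite_singleton _)
      (.union (Set.finite_iUnion fun b => Set.finite_iUnion fun j => Finset.finite_toSet _)
      (Set.finite_iUnion fun b => Set.finite_iUnion fun i => Set.finite_iUnion fun j =>
        Finset.finite_toSet _))
  obtain ⟨S, _, _, _, φ, h, hcomp, hinj, hloc, hT⟩ := exists_stage h₀ hTfin
  refine ⟨S, inferInstance, inferInstance, inferInstance, φ, h, hcomp, hinj, hloc, ?_⟩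
  haveI : IsLocalHom φ := by
    haveI : IsLocalHom (h.comp φ) := hcomp ▸ ‹IsLocalHom h₀›
    exact isLocalHom_of_comp φ h
  letI := φ.toAlgebra
  choose sS hsS using fun b i j => hT (show s b i j ∈ T from Or.inl (Set.mem_iUnion.mpr
    ⟨b, Set.mem_iUnion.mpr ⟨i, Set.mem_iUnion.mpr ⟨j, rfl⟩⟩⟩))
  choose yS hyS using fun b j => exists_map_eq h (p := y b j) fun a ha =>
    hT (Or.inr (Or.inl (Set.mem_iUnion.mpr ⟨b, Set.mem_iUnion.mpr ⟨j, ha⟩⟩)))
  choose cS hcS using fun b i j => exists_map_eq h (p := cof b i j) fun a ha =>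
    hT (Or.inr (Or.inr (Set.mem_iUnion.mpr ⟨b, Set.mem_iUnion.mpr ⟨i, Set.mem_iUnion.mpr ⟨j, ha⟩⟩⟩)))
  have hmap : ∀ p : MvPolynomial (Fin m) R₀,
      MvPolynomial.map h (MvPolynomial.map φ p) = MvPolynomial.map h₀ p := fun p => by
    rw [MvPolynomial.map_map, hcomp]
  have hident : ∀ (b : ↥G) (i : Fin r), MvPolynomial.map φ (β b i) =
      ∑ j, C (sS b i j) * yS b j + ∑ j, cS b i j * MvPolynomial.map φ (g₀ j) := fun b i => by
    apply MvPolynomial.map_injective h hinj
    simp only [map_add, map_sum, map_mul, map_C, hyS, hcS, hsS, hmap, ← hcof b i]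
    abel
  have hsum : ∀ (b : ↥G) (j : Fin (k b)), ∑ i, φ (c i) * sS b i j = 0 := fun b j => by
    apply hinj
    simp only [map_sum, map_mul, hsS, ← RingHom.comp_apply, hcomp, hs b j, map_zero]
  let ψ : MvPolynomial (Fin m) S →ₐ[S] S ⊗[R₀] A₀ :=
    MvPolynomial.aeval fun z => (1 : S) ⊗ₜ[R₀] π (X z)
  have hψ : ∀ p : MvPolynomial (Fin m) R₀,
      ψ (MvPolynomial.map φ p) = (1 : S) ⊗ₜ[R₀] π p := fun p => by
    induction p using MvPolynomial.induction_on with
    | C a =>
      simp only [map_C, ψ, aeval_C, Algebra.TensorProduct.algebraMap_apply, Algebra.algebraMap_self,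
        RingHom.id_apply]
      rw [show φ a = algebraMap R₀ S a from rfl, Algebra.algebraMap_eq_smul_one, smul_tmul,
        ← Algebra.algebraMap_eq_smul_one, ← MvPolynomial.algebraMap_eq, AlgHom.commutes]
    | add a b ha hb => simp only [map_add, ha, hb, tmul_add]
    | mul_X a z ha =>
      simp only [map_mul, ha, map_X]
      simp only [ψ, aeval_X, Algebra.TensorProduct.tmul_mul_tmul, mul_one]
  have hψg : ∀ j, ψ (MvPolynomial.map φ (g₀ j)) = 0 := fun j => by
    rw [hψ, (hπg _).mpr (Ideal.subset_span ⟨j, rfl⟩), tmul_zero]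
  have hgen : ∀ b : ↥G, (fun i => (1 : S) ⊗ₜ[R₀] b.1 i) ∈
      trivRel (S ⊗[R₀] A₀) (fun i => algebraMap R₀ S (c i)) := fun b => by
    have : (fun i => (1 : S) ⊗ₜ[R₀] b.1 i) = ∑ j, fun i => sS b i j • ψ (yS b j) := by
      ext i
      rw [Finset.sum_apply, ← hβ b i, ← hψ, hident, map_add, map_sum, map_sum]
      simp only [map_mul, hψg, mul_zero, Finset.sum_const_zero, add_zero]
      refine Finset.sum_congr rfl fun j _ => ?_
      rw [Algebra.smul_def]
      simp only [ψ, aeval_C]
    rw [this]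
    exact Submodule.sum_mem _ fun j _ => mem_trivRel_of _ _ (hsum b j) fun i => rfl
  have hall : ∀ b : Fin r → A₀, ∑ i, c i • b i = 0 →
      (fun i => (1 : S) ⊗ₜ[R₀] b i) ∈ trivRel (S ⊗[R₀] A₀) (fun i => algebraMap R₀ S (c i)) := by
    intro b hb
    have hb' : b ∈ Submodule.span A₀ (G : Set (Fin r → A₀)) := by
      rw [hG]
      simpa [Rel, Algebra.smul_def] using hb
    clear hb
    induction hb' using Submodule.span_induction with
    | mem b hb => exact hgen ⟨b, hb⟩
    | zero =>
      convert zero_mem (trivRel (S ⊗[R₀] A₀) fun i => algebraMap R₀ S (c i)) using 1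
      ext i
      simp
    | add a b _ _ ha hb =>
      convert add_mem ha hb using 1
      ext i
      simp [tmul_add]
    | smul a b _ hb =>
      convert map_mem_trivRel
        (AlgebraTensorModule.map (LinearMap.id : S →ₗ[S] S) (LinearMap.mulLeft R₀ a)) hb using 1
      ext i
      simp
  -- the inverse of `ψ`
  set JS := Ideal.span (Set.range fun j => MvPolynomial.map φ (g₀ j)) with hJS
  obtain ⟨ω₀, hω₀⟩ := hπlift (MvPolynomial (Fin m) S ⧸ JS)
    (MvPolynomial.aeval fun z => Ideal.Quotient.mk JS (X z)) fun p hp => by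
      have h1 : ∀ p : MvPolynomial (Fin m) R₀, (MvPolynomial.aeval fun z => Ideal.Quotient.mk JS (X z)) p =
          Ideal.Quotient.mk JS (MvPolynomial.map φ p) := fun p => by
        induction p using MvPolynomial.induction_on with
        | C a => rw [aeval_C, map_C]; rfl
        | add a b ha hb => simp only [map_add, ha, hb]
        | mul_X a z ha => simp only [map_mul, ha, map_X, aeval_X]
      rw [h1, Ideal.Quotient.eq_zero_iff_mem]
      have := Ideal.mem_map_of_mem (MvPolynomial.map φ) hp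
      rwa [Ideal.map_span, ← Set.range_comp] at this
  let ω : S ⊗[R₀] A₀ →ₐ[S] MvPolynomial (Fin m) S ⧸ JS :=
    Algebra.TensorProduct.lift (Algebra.ofId S _) ω₀ fun _ _ => Commute.all _ _
  have hωψ : ∀ p, ω (ψ p) = Ideal.Quotient.mk JS p := by
    suffices ω.comp ψ = Ideal.Quotient.mkₐ S JS from fun p => DFunLike.congr_fun this p
    refine MvPolynomial.algHom_ext fun z => ?_
    simp only [AlgHom.comp_apply, ψ, aeval_X, ω, Algebra.TensorProduct.lift_tmul, map_one, one_mul]
    rw [hω₀, aeval_X]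
    rfl
  set 𝔫 := maximalIdeal S with h𝔫
  intro n l d χ hχ x hx j₀
  -- `ψ` of the relation lies in `𝔫 ^ (n + 1) • ⊤`
  have hψJ : ∀ p ∈ JS, ψ p = 0 := fun p hp => by
    induction hp using Submodule.span_induction with
    | mem p hp => obtain ⟨j, rfl⟩ := hp; exact hψg j
    | zero => simp
    | add a b _ _ ha hb => simp [ha, hb]
    | smul a b _ hb => simp [hb]
  have hψI : ∀ (I : Ideal S) (p : MvPolynomial (Fin m) S), p ∈ I.map C →
      ψ p ∈ I • (⊤ : Submodule S (S ⊗[R₀] A₀)) := fun I p hp => by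
    rw [Ideal.map] at hp
    induction hp using Submodule.span_induction with
    | mem p hp =>
      obtain ⟨a, ha, rfl⟩ := hp
      rw [show ψ (C a) = a • (1 : S ⊗[R₀] A₀) by simp [ψ, Algebra.smul_def]]
      exact Submodule.smul_mem_smul ha trivial
    | zero => simp
    | add a b _ _ ha hb => simpa using add_mem ha hb
    | smul a b _ hb =>
      rw [smul_eq_mul, map_mul]
      refine Submodule.smul_induction_on hb ?_ ?_
      · intro t ht z _
        rw [mul_smul_comm]
        exact Submodule.smul_mem_smul ht trivial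
      · intro u v hu hv
        rw [mul_add]
        exact add_mem hu hv
  obtain ⟨u, hu, v, hv, huv⟩ := Submodule.mem_sup.mp hx
  have hsumψ : ∑ j, (d j : S) • ψ (x j) ∈ 𝔫 ^ (n + 1) • (⊤ : Submodule S (S ⊗[R₀] A₀)) := by
    have : ∑ j, (d j : S) • ψ (x j) = ψ v := by
      have h1 := congrArg ψ huv
      rw [map_add, hψJ u hu, zero_add, map_sum] at h1
      rw [h1]
      exact Finset.sum_congr rfl fun j _ => by rw [map_mul, Algebra.smul_def]; simp [ψ]
    rw [this]
    exact hψI _ v hv
  -- `M ⊗ 𝔫 ^ n → M` is injective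
  have hgood : Good S (S ⊗[R₀] A₀) (S ⧸ 𝔫 ^ n) := by
    refine good_baseChange S A₀ (maximalIdeal R₀) hc' hall n _ fun z a => ?_
    obtain ⟨z, rfl⟩ := Submodule.mkQ_surjective _ z
    rw [← map_smul]
    refine (Submodule.Quotient.mk_eq_zero _).mpr (Ideal.mul_mem_right _ _ ?_)
    exact Ideal.pow_right_mono GrothLib.Flatness.map_maximalIdeal_le n a.2
  have hinjn : Injective ((𝔫 ^ n).subtype.lTensor (S ⊗[R₀] A₀)) :=
    hgood _ _ (𝔫 ^ n).subtype (𝔫 ^ n).mkQ Subtype.val_injective (Submodule.mkQ_surjective _)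
      (LinearMap.exact_subtype_mkQ _)
  obtain ⟨η, hη⟩ := exists_rid_lTensor_eq (𝔫 ^ (n + 1)) hsumψ
  let incl : ↥(𝔫 ^ (n + 1)) →ₗ[S] ↥(𝔫 ^ n) := Submodule.inclusion (Ideal.pow_le_pow_right n.le_succ)
  have hξ : ∑ j, ψ (x j) ⊗ₜ[S] d j = incl.lTensor _ η := by
    apply hinjn
    apply (TensorProduct.rid S (S ⊗[R₀] A₀)).injective
    rw [← LinearMap.lTensor_comp_apply, show (𝔫 ^ n).subtype ∘ₗ incl = (𝔫 ^ (n + 1)).subtype from rfl,
      hη]
    simp
  have hχ0 : χ j₀ ∘ₗ incl = 0 := by
    refine LinearMap.ext fun z => ?_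
    have hmemz : incl z ∈ 𝔫 • (⊤ : Submodule S ↥(𝔫 ^ n)) := by
      rw [← Submodule.comap_map_eq_of_injective (f := (𝔫 ^ n).subtype) Subtype.val_injective
        (𝔫 • ⊤), Submodule.mem_comap, Submodule.map_smul'', Submodule.map_top,
        Submodule.range_subtype, smul_eq_mul, ← pow_succ']
      exact z.2
    have h0 : ∀ w : S ⧸ 𝔫, ∀ t ∈ 𝔫, t • w = 0 := fun w t ht => by
      rw [Algebra.smul_def, Ideal.Quotient.algebraMap_eq, Ideal.Quotient.eq_zero_iff_mem.mpr ht,
        zero_mul]
    rw [LinearMap.comp_apply, LinearMap.zero_apply]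
    refine Submodule.smul_induction_on hmemz (fun t ht w _ => ?_) fun a b ha hb => ?_
    · rw [map_smul, h0 _ t ht]
    · rw [map_add, ha, hb, add_zero]
  have hk := congrArg ((χ j₀).lTensor (S ⊗[R₀] A₀)) hξ
  rw [← LinearMap.lTensor_comp_apply, hχ0, LinearMap.lTensor_zero, LinearMap.zero_apply,
    map_sum] at hk
  simp only [LinearMap.lTensor_tmul, hχ, tmul_ite, tmul_zero, Finset.sum_ite_eq,
    Finset.mem_univ, if_true] at hk
  have hmem : ψ (x j₀) ∈ 𝔫 • (⊤ : Submodule S (S ⊗[R₀] A₀)) :=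
    (one_tmul_eq_zero_iff _ _).mp (by simpa using congrArg (TensorProduct.comm S _ _) hk)
  have hq : Ideal.Quotient.mk JS (x j₀) ∈ (𝔫.map C).map (Ideal.Quotient.mk JS) := by
    rw [← hωψ]
    refine Submodule.smul_induction_on hmem (fun t ht w _ => ?_) fun a b ha hb => ?_
    · rw [map_smul, ← mk_C_mul JS t (ω w)]
      exact Ideal.mul_mem_right _ _ (Ideal.mem_map_of_mem _ (Ideal.mem_map_of_mem _ ht))
    · rw [map_add]
      exact add_mem ha hb
  rwa [sup_comm, Ideal.mem_quotient_iff_mem_sup.symm]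

end GrothLib.FlatStage
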