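import Groth.Agent.Lib.Flatness.Artinian
import Groth.Agent.Lib.Flatness.Criterion
import Mathlib.RingTheory.Flat.Stability
import Mathlib.LinearAlgebra.TensorProduct.Tower

/-!
# Flatness at a finite stage

If all relations on a set of generators `c` of a maximal ideal of `R₀` holding in `M₀` become
trivial in `S ⊗ M₀`, then so do all relations holding in `S ⊗ M₀`; hence `S ⊗ M₀` is
`Good` against all `S`-modules killed by a power of `c S` (EGA IV, 11.2.6).
-/

universe u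

namespace GrothLib.FlatStage

open TensorProduct Function GrothLib.Flatness

section Trivial

variable {S : Type u} [CommRing S] {r : ℕ} (M : Type u) [AddCommGroup M] [Module S M]
  (c : Fin r → S)

/-- The trivial relations on `c` with coefficients in `M`. -/
def trivRel : Submodule S (Fin r → M) :=
  Submodule.span S {b | ∃ (s : Fin r → S) (y : M), ∑ i, c i * s i = 0 ∧ ∀ i, b i = s i • y}

theorem mem_trivRel_of {s : Fin r → S} {y : M} {b : Fin r → M} (h : ∑ i, c i * s i = 0)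
    (hb : ∀ i, b i = s i • y) : b ∈ trivRel M c :=
  Submodule.subset_span ⟨s, y, h, hb⟩

variable {M c}

theorem sum_smul_eq_zero_of_mem_trivRel {b : Fin r → M} (hb : b ∈ trivRel M c) :
    ∑ i, c i • b i = 0 := by
  induction hb using Submodule.span_induction with
  | mem b hb =>
    obtain ⟨s, y, h, hb⟩ := hb
    simp only [hb, smul_smul, ← Finset.sum_smul, h, zero_smul]
  | zero => simp
  | add a b _ _ ha hb => simp [smul_add, Finset.sum_add_distrib, ha, hb]
  | smul t b _ hb =>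
    simp only [Pi.smul_apply, smul_comm _ t, ← Finset.smul_sum, hb, smul_zero]

theorem sum_tmul_eq_zero_of_mem_trivRel {b : Fin r → M} (hb : b ∈ trivRel M c)
    (d : Fin r → ↥(Ideal.span (Set.range c))) (hd : ∀ i, (d i : S) = c i) :
    ∑ i, b i ⊗ₜ[S] d i = 0 := by
  induction hb using Submodule.span_induction with
  | mem b hb =>
    obtain ⟨s, y, h, hb⟩ := hb
    simp only [hb, smul_tmul, ← tmul_sum]
    rw [show ∑ i, s i • d i = 0 from Subtype.ext (by simpa [hd, mul_comm] using h), tmul_zero]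
  | zero => simp
  | add a b _ _ ha hb => simp [add_tmul, Finset.sum_add_distrib, ha, hb]
  | smul t b _ hb => simp only [Pi.smul_apply, ← smul_tmul', ← Finset.smul_sum, hb, smul_zero]

/-- If all relations on `c` in `M` are trivial then `M ⊗ cS → M` is injective. -/
theorem lTensor_injective_of_forall_trivRel
    (h : ∀ b : Fin r → M, ∑ i, c i • b i = 0 → b ∈ trivRel M c) :
    Injective ((Ideal.span (Set.range c)).subtype.lTensor M) := by
  let d : Fin r → ↥(Ideal.span (Set.range c)) := fun i => ⟨c i, Ideal.subset_span ⟨i, rfl⟩⟩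
  have hsurj : ∀ x : M ⊗[S] ↥(Ideal.span (Set.range c)), ∃ b : Fin r → M, x = ∑ i, b i ⊗ₜ[S] d i := by
    intro x
    induction x using TensorProduct.induction_on with
    | zero => exact ⟨0, by simp⟩
    | add x y hx hy =>
      obtain ⟨a, rfl⟩ := hx
      obtain ⟨b, rfl⟩ := hy
      exact ⟨a + b, by simp [add_tmul, Finset.sum_add_distrib]⟩
    | tmul m j =>
      obtain ⟨t, ht⟩ := (Ideal.mem_span_range_iff_exists_fun).mp j.2
      refine ⟨fun i => t i • m, ?_⟩
      simp only [smul_tmul, ← tmul_sum]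
      congr 1
      exact Subtype.ext (by simpa [d] using ht.symm)
  rw [injective_iff_map_eq_zero]
  intro x hx
  obtain ⟨b, rfl⟩ := hsurj x
  refine sum_tmul_eq_zero_of_mem_trivRel (h b ?_) d fun i => rfl
  simpa [d, LinearMap.lTensor_tmul] using congrArg (TensorProduct.rid S M) hx

end Trivial

section Chase

variable {R₀ : Type u} [CommRing R₀] (S : Type u) [CommRing S] [Algebra R₀ S]
  (M₀ : Type u) [AddCommGroup M₀] [Module R₀ M₀]
  (𝔪 : Ideal R₀) [𝔪.IsMaximal] {r : ℕ} {c : Fin r → R₀}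

/-- If every relation on `c` in `M₀` becomes trivial in `S ⊗ M₀`, all relations on `c` in
`S ⊗ M₀` are trivial. -/
theorem forall_trivRel_baseChange (hc : Ideal.span (Set.range c) = 𝔪)
    (h : ∀ b : Fin r → M₀, ∑ i, c i • b i = 0 →
      (fun i => (1 : S) ⊗ₜ[R₀] b i) ∈ trivRel (S ⊗[R₀] M₀) (fun i => algebraMap R₀ S (c i)))
    (x : Fin r → S ⊗[R₀] M₀) (hx : ∑ i, algebraMap R₀ S (c i) • x i = 0) :
    x ∈ trivRel (S ⊗[R₀] M₀) (fun i => algebraMap R₀ S (c i)) := by
  classical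
  letI : Field (R₀ ⧸ 𝔪) := Ideal.Quotient.field 𝔪
  let e := Module.Free.chooseBasis (R₀ ⧸ 𝔪) ((R₀ ⧸ 𝔪) ⊗[R₀] M₀)
  choose v hv using fun i =>
    TensorProduct.mk_surjective R₀ M₀ (R₀ ⧸ 𝔪) Ideal.Quotient.mk_surjective (e i)
  let Λ := Module.Free.ChooseBasisIndex (R₀ ⧸ 𝔪) ((R₀ ⧸ 𝔪) ⊗[R₀] M₀)
  set N := trivRel (S ⊗[R₀] M₀) (fun i => algebraMap R₀ S (c i)) with hN
  let cm : (Fin r → M₀) →ₗ[R₀] M₀ := ∑ i, c i • LinearMap.proj i
  have hcm : ∀ b, cm b = ∑ i, c i • b i := fun b => by simp [cm]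
  have hcmem : ∀ y : M₀, y ∈ 𝔪 • (⊤ : Submodule R₀ M₀) → ∃ b, cm b = y := by
    intro y hy
    rw [← hc] at hy
    refine Submodule.smul_induction_on hy ?_ ?_
    · intro t ht z _
      obtain ⟨w, hw⟩ := Ideal.mem_span_range_iff_exists_fun.mp ht
      refine ⟨fun i => w i • z, ?_⟩
      simp [hcm, ← hw, Finset.sum_smul, smul_smul, mul_comm]
    · rintro a b ⟨a', rfl⟩ ⟨b', rfl⟩
      exact ⟨a' + b', map_add _ _ _⟩
  let π : (Λ →₀ R₀) × (Fin r → M₀) →ₗ[R₀] M₀ :=
    LinearMap.coprod (Finsupp.linearCombination R₀ v) cm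
  have hπ : Surjective π := by
    intro y
    obtain ⟨f, hf⟩ : ∃ f : Λ →₀ R₀,
        (1 : R₀ ⧸ 𝔪) ⊗ₜ[R₀] (Finsupp.linearCombination R₀ v f) = (1 : R₀ ⧸ 𝔪) ⊗ₜ[R₀] y := by
      have hy : (1 : R₀ ⧸ 𝔪) ⊗ₜ[R₀] y ∈ Submodule.span R₀ (Set.range e) := by
        rw [← Submodule.restrictScalars_span R₀ (R₀ ⧸ 𝔪) Ideal.Quotient.mk_surjective, e.span_eq]
        trivial
      rw [← (funext hv : TensorProduct.mk R₀ (R₀ ⧸ 𝔪) M₀ 1 ∘ v = e), Set.range_comp,
        Submodule.span_image] at hy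
      obtain ⟨z, hz, hzy⟩ := hy
      obtain ⟨f, rfl⟩ := (Finsupp.mem_span_range_iff_exists_finsupp).mp hz
      exact ⟨f, by simpa [Finsupp.linearCombination_apply] using hzy⟩
    obtain ⟨b, hb⟩ := hcmem (y - Finsupp.linearCombination R₀ v f) ((one_tmul_eq_zero_iff _ _).mp
      (by rw [tmul_sub, hf, sub_self]))
    exact ⟨(f, b), by simp [π, hb]⟩
  let Φ : (Λ →₀ S) →ₗ[S] S ⊗[R₀] M₀ := Finsupp.linearCombination S fun l => (1 : S) ⊗ₜ[R₀] v l
  let L : (Fin r → Λ →₀ S) →ₗ[S] (Λ →₀ S) × ((Fin r → S ⊗[R₀] M₀) ⧸ N) :=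
    LinearMap.prod (∑ i, algebraMap R₀ S (c i) • LinearMap.proj i)
      (-(N.mkQ ∘ₗ LinearMap.pi fun i => Φ ∘ₗ LinearMap.proj i))
  let toM : (Fin r → M₀) →ₗ[R₀] (Fin r → S ⊗[R₀] M₀) :=
    LinearMap.pi fun i => (TensorProduct.mk R₀ S M₀ 1) ∘ₗ LinearMap.proj i
  let θ : (Λ →₀ R₀) × (Fin r → M₀) →ₗ[R₀]
      ((Λ →₀ S) × ((Fin r → S ⊗[R₀] M₀) ⧸ N)) ⧸ LinearMap.range L :=
    (LinearMap.range L).mkQ.restrictScalars R₀ ∘ₗ
      LinearMap.prodMap (Finsupp.mapRange.linearMap (Algebra.linearMap R₀ S))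
        (N.mkQ.restrictScalars R₀ ∘ₗ toM)
  have hθ : LinearMap.ker π ≤ LinearMap.ker θ := by
    rintro ⟨f, b⟩ hfb
    have hfb' : Finsupp.linearCombination R₀ v f + cm b = 0 := by simpa [π] using hfb
    have hzero : ∑ l ∈ f.support, (Ideal.Quotient.mk 𝔪 (f l)) • e l = 0 := by
      have hcb : (1 : R₀ ⧸ 𝔪) ⊗ₜ[R₀] cm b = 0 := by
        rw [one_tmul_eq_zero_iff, hcm]
        exact Submodule.sum_mem _ fun i _ =>
          Submodule.smul_mem_smul (hc ▸ Ideal.subset_span ⟨i, rfl⟩) trivial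
      have h1 := congrArg (fun z => (1 : R₀ ⧸ 𝔪) ⊗ₜ[R₀] z) hfb'
      simp only [tmul_add, hcb, add_zero, tmul_zero] at h1
      rw [Finsupp.linearCombination_apply, Finsupp.sum, tmul_sum] at h1
      rw [← h1]
      refine Finset.sum_congr rfl fun l _ => ?_
      rw [tmul_smul, ← hv l, TensorProduct.mk_apply, ← algebraMap_smul (R₀ ⧸ 𝔪) (f l)]
      rfl
    have hfm : ∀ l, f l ∈ 𝔪 := fun l => by
      by_cases hl : l ∈ f.support
      · exact Ideal.Quotient.eq_zero_iff_mem.mp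
          (linearIndependent_iff'.mp e.linearIndependent f.support _ hzero l hl)
      · rw [Finsupp.notMem_support_iff.mp hl]
        exact zero_mem _
    choose g hg using fun l => Ideal.mem_span_range_iff_exists_fun.mp (hc.symm ▸ hfm l)
    let g' : Fin r → Λ →₀ R₀ := fun i =>
      Finsupp.onFinset f.support (fun l => if l ∈ f.support then g l i else 0) fun l hl => by
        by_contra h'; exact hl (if_neg h')
    have hfg : f = ∑ i, c i • g' i := by
      ext l
      simp only [g', Finsupp.coe_finsetSum, Finset.sum_apply, Finsupp.smul_apply,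
        Finsupp.onFinset_apply, smul_eq_mul]
      split_ifs with hl
      · rw [← hg l]; exact Finset.sum_congr rfl fun i _ => mul_comm _ _
      · simp [Finsupp.notMem_support_iff.mp hl]
    have hrel : ∑ i, c i • (b i + Finsupp.linearCombination R₀ v (g' i)) = 0 := by
      simp only [smul_add, Finset.sum_add_distrib, ← map_smul, ← map_sum, ← hfg]
      rw [← hcm, add_comm, hfb']
    have hin := h _ hrel
    let g'' : Fin r → Λ →₀ S := fun i => Finsupp.mapRange.linearMap (Algebra.linearMap R₀ S) (g' i)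
    rw [LinearMap.mem_ker]
    refine (Submodule.Quotient.mk_eq_zero _).mpr ⟨g'', ?_⟩
    refine Prod.ext ?_ ?_
    · ext l
      simp [L, g'', hfg, Finsupp.coe_finsetSum]
    · show -N.mkQ (fun i => Φ (g'' i)) = N.mkQ (toM b)
      rw [neg_eq_iff_add_eq_zero, ← map_add, Submodule.mkQ_apply, Submodule.Quotient.mk_eq_zero]
      convert hin using 1
      ext i
      have hΦ : ∀ w : Λ →₀ R₀, Φ (Finsupp.mapRange.linearMap (Algebra.linearMap R₀ S) w) =
          (1 : S) ⊗ₜ[R₀] Finsupp.linearCombination R₀ v w := fun w => by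
        induction w using Finsupp.induction_linear with
        | zero => simp
        | add a b ha hb => simp only [map_add, ha, hb, tmul_add]
        | single l t => simp [Φ, algebraMap_smul]
      simp only [Pi.add_apply, tmul_add, g'', hΦ]
      simp [toM, add_comm]
  let θ' : M₀ →ₗ[R₀] ((Λ →₀ S) × ((Fin r → S ⊗[R₀] M₀) ⧸ N)) ⧸ LinearMap.range L :=
    (LinearMap.ker π).liftQ θ hθ ∘ₗ (π.quotKerEquivOfSurjective hπ).symm.toLinearMap
  have hθ' : ∀ z, θ' (π z) = θ z := fun z => by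
    simp [θ', LinearMap.quotKerEquivOfSurjective_symm_apply]
  let Θ := θ'.liftBaseChange S
  let ι : (Fin r → S ⊗[R₀] M₀) →ₗ[S] ((Λ →₀ S) × ((Fin r → S ⊗[R₀] M₀) ⧸ N)) ⧸ LinearMap.range L :=
    (LinearMap.range L).mkQ ∘ₗ LinearMap.inr S (Λ →₀ S) _ ∘ₗ N.mkQ
  have key : Θ ∘ₗ (∑ i, algebraMap R₀ S (c i) • LinearMap.proj i) = ι := by
    refine LinearMap.pi_ext' fun i => ?_
    ext m
    have h1 : π (0, Pi.single i m) = c i • m := by
      simp [π, hcm, Pi.single_apply, smul_ite]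
    have h2 := hθ' (0, Pi.single i m)
    rw [h1] at h2
    have h3 : toM (Pi.single i m) = Pi.single i ((1 : S) ⊗ₜ[R₀] m) := by
      ext j
      by_cases hj : j = i
      · subst hj; simp [toM]
      · simp [toM, Pi.single_eq_of_ne hj]
    simp only [θ, LinearMap.comp_apply, LinearMap.prodMap_apply, map_zero, LinearMap.coe_restrictScalars,
      h3, map_smul] at h2
    simp [Θ, ι, Pi.single_apply, smul_ite, algebraMap_smul]
    simpa using h2
  have hx' : ι x = 0 := by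
    rw [← key, LinearMap.comp_apply, LinearMap.sum_apply]
    simp only [LinearMap.smul_apply, LinearMap.proj_apply, hx, map_zero]
  obtain ⟨g, hg⟩ := (Submodule.Quotient.mk_eq_zero _).mp hx'
  have hg1 : (∑ i, algebraMap R₀ S (c i) • g i) = 0 := by
    simpa [L] using congrArg Prod.fst hg
  have hg2 : -N.mkQ (fun i => Φ (g i)) = N.mkQ x := congrArg Prod.snd hg
  have hgN : (fun i => Φ (g i)) ∈ N := by
    let F : Finset Λ := Finset.univ.biUnion fun i => (g i).support
    have hexp : (fun i => Φ (g i)) = ∑ l ∈ F, fun i => g i l • ((1 : S) ⊗ₜ[R₀] v l) := by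
      ext i
      rw [Finset.sum_apply]
      exact Finsupp.sum_of_support_subset (g i) (Finset.subset_biUnion_of_mem (fun i => (g i).support)
        (Finset.mem_univ i)) _ (fun _ _ => zero_smul _ _)
    rw [hexp]
    refine Submodule.sum_mem _ fun l _ => mem_trivRel_of _ _ ?_ fun i => rfl
    simpa [Finsupp.coe_finsetSum, Algebra.smul_def] using DFunLike.congr_fun hg1 l
  have : N.mkQ x = 0 := by
    rw [← hg2, Submodule.mkQ_apply, (Submodule.Quotient.mk_eq_zero _).mpr hgN, neg_zero]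
  exact (Submodule.Quotient.mk_eq_zero _).mp this

/-- **Flatness at a finite stage**: `S ⊗ M₀` is `Good` against modules killed by powers of `𝔪 S`. -/
theorem good_baseChange (hc : Ideal.span (Set.range c) = 𝔪)
    (h : ∀ b : Fin r → M₀, ∑ i, c i • b i = 0 →
      (fun i => (1 : S) ⊗ₜ[R₀] b i) ∈ trivRel (S ⊗[R₀] M₀) (fun i => algebraMap R₀ S (c i)))
    (n : ℕ) (N : Type u) [AddCommGroup N] [Module S N]
    (hN : Module.IsTorsionBySet S N ((𝔪.map (algebraMap R₀ S)) ^ n : Ideal S)) :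
    Good S (S ⊗[R₀] M₀) N := by
  have hI : 𝔪.map (algebraMap R₀ S) = Ideal.span (Set.range fun i => algebraMap R₀ S (c i)) := by
    rw [← hc, Ideal.map_span, ← Set.range_comp]
    rfl
  refine good_of_pow _ ?_ ?_ n N hN
  · rw [hI]
    exact lTensor_injective_of_forall_trivRel fun x hx => forall_trivRel_baseChange S M₀ 𝔪 hc h x hx
  · letI : Field (R₀ ⧸ 𝔪) := Ideal.Quotient.field 𝔪
    set I := 𝔪.map (algebraMap R₀ S)
    let φ : R₀ ⧸ 𝔪 →+* S ⧸ I :=
      Ideal.Quotient.lift 𝔪 ((Ideal.Quotient.mk I).comp (algebraMap R₀ S))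
        fun a ha => Ideal.Quotient.eq_zero_iff_mem.mpr (Ideal.mem_map_of_mem _ ha)
    letI : Algebra (R₀ ⧸ 𝔪) (S ⧸ I) := φ.toAlgebra
    haveI : IsScalarTower R₀ (R₀ ⧸ 𝔪) (S ⧸ I) := IsScalarTower.of_algebraMap_eq fun a => rfl
    let e : (S ⧸ I) ⊗[S] (S ⊗[R₀] M₀) ≃ₗ[S ⧸ I] (S ⧸ I) ⊗[R₀ ⧸ 𝔪] ((R₀ ⧸ 𝔪) ⊗[R₀] M₀) :=
      AlgebraTensorModule.cancelBaseChange R₀ S (S ⧸ I) (S ⧸ I) M₀ ≪≫ₗ
        (AlgebraTensorModule.cancelBaseChange R₀ (R₀ ⧸ 𝔪) (S ⧸ I) (S ⧸ I) M₀).symm
    exact Module.Flat.of_linearEquiv e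

end Chase

end GrothLib.FlatStage
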